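import Mathlib.RingTheory.Henselian
import Mathlib.RingTheory.Localization.Integral
import Mathlib.RingTheory.IntegralClosure.IntegrallyClosed
import Mathlib.RingTheory.Polynomial.GaussLemma
import Mathlib.FieldTheory.IsSepClosed
import Mathlib.FieldTheory.Galois.Infinite

/-! # The fixed field of automorphisms fixing a place is henselian at the place -/

set_option autoImplicit false
set_option linter.style.haveILetI false
set_option maxHeartbeats 400000

universe u

open Polynomial

namespace GrothLib.HensFix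

variable {R K Ks : Type u} [CommRing R] [IsDomain R] [Field K] [Algebra R K] [IsFractionRing R K]
  [Field Ks] [Algebra K Ks] [IsSepClosure K Ks] [Algebra R Ks] [IsScalarTower R K Ks]
  (Ps : Ideal (integralClosure R Ks))

/-- Automorphisms of the field restricted to the integral closure. -/
noncomputable def res (σ : Ks ≃ₐ[K] Ks) : integralClosure R Ks ≃ₐ[R] integralClosure R Ks :=
  (σ.restrictScalars R).mapIntegralClosure

theorem coe_res (σ : Ks ≃ₐ[K] Ks) (x : integralClosure R Ks) : (res σ x : Ks) = σ (x : Ks) := rfl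

/-- The automorphisms fixing the prime. -/
def stab : Subgroup (Ks ≃ₐ[K] Ks) where
  carrier := {σ | ∀ x, res (R := R) σ x ∈ Ps ↔ x ∈ Ps}
  one_mem' x := by rw [show res (R := R) (1 : Ks ≃ₐ[K] Ks) x = x from Subtype.ext rfl]
  mul_mem' {σ τ} hσ hτ x := by
    rw [show res (R := R) (σ * τ) x = res σ (res τ x) from Subtype.ext rfl]
    exact (hσ _).trans (hτ x)
  inv_mem' {σ} hσ x := by
    rw [← hσ (res σ⁻¹ x), show res (R := R) σ (res σ⁻¹ x) = x from Subtype.ext (σ.apply_symm_apply _)]

theorem mem_stab_of_le [hP : Ps.IsMaximal] {σ : Ks ≃ₐ[K] Ks} (h : ∀ x ∈ Ps, res (R := R) σ x ∈ Ps) : σ ∈ stab Ps := by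
  intro x
  refine ⟨fun hx => ?_, h x⟩
  have h2 : Ps ≤ Ps.comap (res (R := R) σ).toAlgHom.toRingHom := h
  have h3 : x ∈ Ps.comap (res (R := R) σ).toAlgHom.toRingHom := hx
  rwa [← hP.eq_of_le (Ideal.comap_ne_top _ hP.ne_top) h2] at h3

instance (L : IntermediateField K Ks) : IsScalarTower R L Ks :=
  IsScalarTower.of_algebraMap_eq fun r => by
    rw [IsScalarTower.algebraMap_apply R K L, IsScalarTower.algebraMap_apply R K Ks]
    rfl

variable (H : Subgroup (Ks ≃ₐ[K] Ks)) (L : IntermediateField K Ks)

include R in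
theorem mem_stab_of_mem_fixingSubgroup (hL : L = IntermediateField.fixedField H) (hH : H ≤ stab (R := R) Ps)
    {σ : Ks ≃ₐ[K] Ks} (hσ : σ ∈ L.fixingSubgroup) : σ ∈ stab (R := R) Ps := by
  haveI : IsGalois K Ks := IsSepClosure.isGalois
  subst hL
  let Hc : ClosedSubgroup (Ks ≃ₐ[K] Ks) := ⟨H.topologicalClosure, H.isClosed_topologicalClosure⟩
  have h1 : σ ∈ H.topologicalClosure := by
    have hle : IntermediateField.fixedField H.topologicalClosure ≤ IntermediateField.fixedField H :=
      fun x hx τ => hx ⟨τ.1, H.le_topologicalClosure τ.2⟩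
    have h0 : σ ∈ (IntermediateField.fixedField (Hc : Subgroup (Ks ≃ₐ[K] Ks))).fixingSubgroup :=
      IntermediateField.fixingSubgroup_le hle hσ
    rwa [InfiniteGalois.fixingSubgroup_fixedField Hc] at h0
  intro x
  let E : IntermediateField K Ks := IntermediateField.adjoin K {(x : Ks)}
  haveI : FiniteDimensional K E :=
    IntermediateField.adjoin.finiteDimensional (Algebra.IsIntegral.isIntegral (x : Ks))
  have hopen : IsOpen ((fun τ => σ⁻¹ * τ) ⁻¹' (E.fixingSubgroup : Set (Ks ≃ₐ[K] Ks))) :=
    E.fixingSubgroup_isOpen.preimage (continuous_const_mul σ⁻¹)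
  obtain ⟨τ, hτ1, hτ2⟩ := mem_closure_iff.1 h1 _ hopen (by simp [E.fixingSubgroup.one_mem])
  have hfix : (σ⁻¹ * τ) (x : Ks) = x :=
    (IntermediateField.mem_fixingSubgroup_iff _ _).1 hτ1 _ (IntermediateField.mem_adjoin_simple_self K _)
  have heq : res (R := R) τ x = res σ x := Subtype.ext (by
    rw [coe_res, coe_res]
    conv_rhs => rw [← hfix]
    exact (σ.apply_symm_apply _).symm)
  rw [← heq]
  exact hH hτ2 x

variable (Q : Ideal (integralClosure R L)) [Q.IsPrime]

/-- The local ring above the place. -/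
def big : Subring Ks where
  carrier := {y | ∃ s : integralClosure R L, s ∉ Q ∧ IsIntegral R (((s : L) : Ks) * y)}
  one_mem' := ⟨1, fun h => ‹Q.IsPrime›.ne_top ((Ideal.eq_top_iff_one _).2 h), by simpa using isIntegral_one⟩
  zero_mem' := ⟨1, fun h => ‹Q.IsPrime›.ne_top ((Ideal.eq_top_iff_one _).2 h), by simpa using isIntegral_zero⟩
  neg_mem' := fun {y} ⟨s, hs, h⟩ => ⟨s, hs, by simpa using h.neg⟩
  mul_mem' := fun {y z} ⟨s, hs, h⟩ ⟨t, ht, h'⟩ => ⟨s * t, ‹Q.IsPrime›.mul_notMem hs ht, by
    have := h.mul h'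
    show IsIntegral R (algebraMap L Ks ((s : L) * (t : L)) * (y * z))
    rw [map_mul, mul_mul_mul_comm]
    exact this⟩
  add_mem' := fun {y z} ⟨s, hs, h⟩ ⟨t, ht, h'⟩ => ⟨s * t, ‹Q.IsPrime›.mul_notMem hs ht, by
    have h1 := ((isIntegral_algebraMap_iff (A := L) (B := Ks) (algebraMap L Ks).injective).2 t.2).mul h
    have h2 := ((isIntegral_algebraMap_iff (A := L) (B := Ks) (algebraMap L Ks).injective).2 s.2).mul h'
    show IsIntegral R (algebraMap L Ks ((s : L) * (t : L)) * (y + z))
    rw [map_mul, show algebraMap L Ks (s : L) * algebraMap L Ks (t : L) * (y + z) =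
      algebraMap L Ks (t : L) * (algebraMap L Ks (s : L) * y) + algebraMap L Ks (s : L) * (algebraMap L Ks (t : L) * z) by ring]
    exact h1.add h2⟩

variable {Ps L Q}
variable (hQ : ∀ y : integralClosure R L, y ∈ Q ↔ ∃ x : integralClosure R Ks, x ∈ Ps ∧ (x : Ks) = ((y : L) : Ks))

/-- An element of `L` in the integral closure upstairs. -/
def up (y : integralClosure R L) : integralClosure R Ks :=
  ⟨((y : L) : Ks), (isIntegral_algebraMap_iff (A := L) (B := Ks) (algebraMap L Ks).injective).2 y.2⟩

include hQ in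
theorem up_mem_iff (y : integralClosure R L) : up y ∈ Ps ↔ y ∈ Q :=
  ⟨fun h => (hQ y).2 ⟨_, h, rfl⟩, fun h => by
    obtain ⟨x, hx, he⟩ := (hQ y).1 h
    rwa [show up y = x from Subtype.ext he.symm]⟩

/-- The place on the local ring above. -/
def place [hP : Ps.IsPrime] : Ideal (big L Q) where
  carrier := {y | ∃ s : integralClosure R L, s ∉ Q ∧ ∃ x ∈ Ps, (x : Ks) = ((s : L) : Ks) * (y : Ks)}
  zero_mem' := ⟨1, fun h => ‹Q.IsPrime›.ne_top ((Ideal.eq_top_iff_one _).2 h), 0, zero_mem _, by simp⟩
  add_mem' := fun {y z} ⟨s, hs, a, ha, hay⟩ ⟨t, ht, b, hb, hbz⟩ => ⟨s * t, ‹Q.IsPrime›.mul_notMem hs ht,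
    up t * a + up s * b, add_mem (Ps.mul_mem_left _ ha) (Ps.mul_mem_left _ hb), by
      show ((t : L) : Ks) * (a : Ks) + ((s : L) : Ks) * (b : Ks) = _
      rw [hay, hbz]
      push_cast
      ring⟩
  smul_mem' := fun c y ⟨s, hs, a, ha, hay⟩ => by
    obtain ⟨t, ht, hc⟩ := c.2
    refine ⟨t * s, ‹Q.IsPrime›.mul_notMem ht hs, ⟨_, hc⟩ * a, Ps.mul_mem_left _ ha, ?_⟩
    show ((t : L) : Ks) * (c : Ks) * (a : Ks) = _
    rw [hay, smul_eq_mul]
    push_cast
    ring

include hQ in
theorem isPrime_place [hP : Ps.IsPrime] : (place (Ps := Ps) (L := L) (Q := Q)).IsPrime := by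
  refine ⟨fun h => ?_, fun {y z} ⟨s, hs, a, ha, hayz⟩ => ?_⟩
  · obtain ⟨s, hs, a, ha, h1⟩ := (Ideal.eq_top_iff_one _).1 h
    exact hs ((up_mem_iff hQ s).1 (by rwa [show up s = a from Subtype.ext (by simpa [up] using h1.symm)]))
  · obtain ⟨t, ht, hy⟩ := y.2
    obtain ⟨v, hv, hz⟩ := z.2
    have h1 : up t * up v * a ∈ Ps := Ps.mul_mem_left _ ha
    have h2 : up t * up v * a = up s * (⟨_, hy⟩ * ⟨_, hz⟩) := Subtype.ext (by
      show ((t : L) : Ks) * ((v : L) : Ks) * (a : Ks) = ((s : L) : Ks) * ((((t : L) : Ks) * (y : Ks)) * (((v : L) : Ks) * (z : Ks)))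
      rw [hayz]
      push_cast
      ring)
    rw [h2] at h1
    rcases (hP.mem_or_mem h1) with h3 | h3
    · exact absurd ((up_mem_iff hQ s).1 h3) hs
    rcases (hP.mem_or_mem h3) with h4 | h4
    · exact Or.inl ⟨t, ht, _, h4, rfl⟩
    · exact Or.inr ⟨v, hv, _, h4, rfl⟩

variable (hpres : ∀ σ ∈ L.fixingSubgroup, σ ∈ stab (R := R) Ps)

include hQ hpres in
/-- The localization at the place is henselian. -/
theorem henselian [hP : Ps.IsMaximal] : HenselianLocalRing (Localization.AtPrime Q) := by
  classical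
  haveI : IsGalois K Ks := IsSepClosure.isGalois
  let RL := integralClosure R L
  let O := Localization.AtPrime Q
  have hinj : Function.Injective (algebraMap R L) := by
    rw [IsScalarTower.algebraMap_eq R K L]
    exact (algebraMap K L).injective.comp (IsFractionRing.injective R K)
  haveI : Algebra.IsAlgebraic R L := IsFractionRing.comap_isAlgebraic_iff.mpr (inferInstance : Algebra.IsAlgebraic K L)
  haveI : IsFractionRing RL L :=
    integralClosure.isFractionRing_of_algebraic fun x hx => (map_eq_zero_iff _ hinj).1 hx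
  haveI : IsIntegrallyClosed RL := (isIntegrallyClosed_iff L).2 fun {x} hx =>
    ⟨⟨x, isIntegral_trans x hx⟩, rfl⟩
  haveI : IsIntegrallyClosed O := isIntegrallyClosed_of_isLocalization (R := RL) O Q.primeCompl Q.primeCompl_le_nonZeroDivisors
  let φ : O →+* L := IsLocalization.lift (M := Q.primeCompl) (g := algebraMap RL L) fun s =>
    (IsUnit.mk0 _ fun h => s.2 (by rw [(map_eq_zero_iff _ (IsFractionRing.injective RL L)).1 h]; exact Q.zero_mem))
  letI : Algebra O L := φ.toAlgebra
  haveI : IsScalarTower RL O L := IsScalarTower.of_algebraMap_eq fun x => (IsLocalization.lift_eq _ x).symm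
  haveI : IsFractionRing O L := IsFractionRing.isFractionRing_of_isDomain_of_isLocalization Q.primeCompl O L
  have hφ : Function.Injective φ := IsFractionRing.injective O L
  let ψ : O →+* Ks := (algebraMap L Ks).comp φ
  have hψ : Function.Injective ψ := (algebraMap L Ks).injective.comp hφ
  have hmk : ∀ (r : RL) (s : Q.primeCompl), ((s : RL) : L) * φ (IsLocalization.mk' O r s) = (r : L) := fun r s => by
    show (algebraMap RL L) s * φ _ = algebraMap RL L r
    exact IsLocalization.lift_mk'_spec (M := Q.primeCompl) _ _ _ _ |>.mp rfl |>.symm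
  have hbig : ∀ o : O, ψ o ∈ big L Q := fun o => by
    obtain ⟨⟨r, s⟩, rfl⟩ := IsLocalization.mk'_surjective Q.primeCompl o
    refine ⟨s, s.2, ?_⟩
    show IsIntegral R (algebraMap L Ks ((s : RL) : L) * algebraMap L Ks (φ _))
    rw [← map_mul, hmk]
    exact (up r).2
  let ψ' : O →+* big L Q := ψ.codRestrict _ hbig
  haveI := isPrime_place (Ps := Ps) hQ
  let M : Ideal (big L Q) := place (Ps := Ps) (L := L) (Q := Q)
  have hM : ∀ o : O, ψ' o ∈ M ↔ o ∈ IsLocalRing.maximalIdeal O := fun o => by
    obtain ⟨⟨r, s⟩, rfl⟩ := IsLocalization.mk'_surjective Q.primeCompl o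
    rw [IsLocalization.AtPrime.mk'_mem_maximal_iff O Q]
    constructor
    · rintro ⟨t, ht, a, ha, h⟩
      have h1 : up (s : RL) * a = up (t * r) := Subtype.ext (by
        show algebraMap L Ks ((s : RL) : L) * (a : Ks) = algebraMap L Ks ((t * r : RL) : L)
        rw [h]
        show algebraMap L Ks ((s : RL) : L) * (algebraMap L Ks (t : L) * algebraMap L Ks (φ _)) = _
        rw [← map_mul, ← map_mul, mul_left_comm, hmk]
        rfl)
      have h2 : t * r ∈ Q := (up_mem_iff hQ _).1 (h1 ▸ Ps.mul_mem_left _ ha)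
      exact (‹Q.IsPrime›.mem_or_mem h2).resolve_left ht
    · intro hr
      refine ⟨s, s.2, up r, (up_mem_iff hQ r).2 hr, ?_⟩
      show algebraMap L Ks (r : L) = algebraMap L Ks ((s : RL) : L) * algebraMap L Ks (φ _)
      rw [← map_mul, hmk]
  refine ⟨fun f => ?_⟩
  induction h : f.natDegree using Nat.strong_induction_on generalizing f with
  | _ d ih =>
    intro hf a₀ h0 h1
    by_cases hirr : Irreducible f
    · have hirrL : Irreducible (f.map (algebraMap O L)) := (hf.irreducible_iff_irreducible_map_fraction_map).1 hirr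
      have hsep : (f.map (algebraMap O L)).Separable := by
        rw [separable_iff_derivative_ne_zero hirrL, derivative_map, Ne, Polynomial.map_eq_zero_iff (IsFractionRing.injective O L)]
        intro hz
        rw [hz, eval_zero] at h1
        exact not_isUnit_zero h1
      have hspl : (f.map ψ).Splits := by
        haveI := IsSepClosure.sep_closed (K := Ks) K
        rw [show ψ = (algebraMap L Ks).comp (algebraMap O L) from rfl, ← Polynomial.map_map]
        exact IsSepClosed.splits_codomain _ hsep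
      have hroots : ∀ α ∈ (f.map ψ).roots, α ∈ big L Q := fun α hα => by
        letI : Algebra O Ks := ψ.toAlgebra
        haveI : IsScalarTower RL O Ks := IsScalarTower.of_algebraMap_eq fun x => by
          show algebraMap L Ks (x : L) = algebraMap L Ks (φ (algebraMap RL O x))
          rw [IsLocalization.lift_eq]; rfl
        have hint : IsIntegral O α := ⟨f, hf, by
          have := (mem_roots (hf.map ψ).ne_zero).1 hα
          rwa [IsRoot, eval_map] at this⟩
        obtain ⟨s, hs⟩ := hint.exists_multiple_integral_of_isLocalization Q.primeCompl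
        refine ⟨s, s.2, isIntegral_trans (R := R) (A := RL) _ ?_⟩
        rwa [Submonoid.smul_def, Algebra.smul_def] at hs
      have hprod : ∀ x : O, ψ (f.eval x) = (((f.map ψ).roots).map (ψ x - ·)).prod := fun x => by
        rw [← eval₂_hom, ← eval_map, Splits.eval_eq_prod_roots_of_monic hspl (hf.map ψ)]
      have hder : ψ (f.derivative.eval a₀) =
          ((f.map ψ).roots.map fun a => (((f.map ψ).roots.erase a).map (ψ a₀ - ·)).prod).sum := by
        rw [← eval₂_hom, ← eval_map, ← derivative_map, Splits.eval_derivative hspl, (hf.map ψ).leadingCoeff, one_mul]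
      obtain ⟨S, hS⟩ : ∃ S : Multiset (big L Q), S.map Subtype.val = (f.map ψ).roots := by
        refine ⟨(f.map ψ).roots.attach.map fun α => ⟨α.1, hroots α.1 α.2⟩, ?_⟩
        rw [Multiset.map_map]
        exact Multiset.attach_map_val _
      have hPM : (S.map fun β => ψ' a₀ - β).prod ∈ M := by
        rw [show (S.map fun β => ψ' a₀ - β).prod = ψ' (f.eval a₀) from Subtype.ext (by
          rw [show ((ψ' (f.eval a₀) : big L Q) : Ks) = ψ (f.eval a₀) from rfl, hprod, ← hS,
            SubmonoidClass.coe_multiset_prod, Multiset.map_map, Multiset.map_map]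
          rfl)]
        exact (hM _).2 h0
      obtain ⟨_, hβ, hβM⟩ := (Ideal.IsPrime.multiset_prod_mem_iff_exists_mem ‹M.IsPrime› _).1 hPM
      obtain ⟨β, hβS, rfl⟩ := Multiset.mem_map.1 hβ
      have hβroot : (β : Ks) ∈ (f.map ψ).roots := hS ▸ Multiset.mem_map_of_mem _ hβS
      have hfixed : ∀ σ ∈ L.fixingSubgroup, σ (β : Ks) = β := by
        intro σ hσ
        by_contra hne
        have hσL : ∀ l : L, σ (algebraMap L Ks l) = algebraMap L Ks l := fun l =>
          (IntermediateField.mem_fixingSubgroup_iff _ _).1 hσ _ l.2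
        have hσroot : σ (β : Ks) ∈ (f.map ψ).roots := by
          rw [mem_roots (hf.map ψ).ne_zero, IsRoot, eval_map] at hβroot ⊢
          have := congrArg σ hβroot
          rwa [map_zero, show σ (eval₂ ψ (β : Ks) f) = (σ : Ks →+* Ks) (eval₂ ψ (β : Ks) f) from rfl, hom_eval₂, show (σ : Ks →+* Ks).comp ψ = ψ from
            RingHom.ext fun o => hσL (φ o)] at this
        let γ : big L Q := ⟨σ (β : Ks), hroots _ hσroot⟩
        have hγM : ψ' a₀ - γ ∈ M := by
          obtain ⟨s, hs, a, ha, he⟩ := hβM
          refine ⟨s, hs, res σ a, (hpres σ hσ a).2 ha, ?_⟩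
          rw [coe_res, he, map_mul]
          show σ (algebraMap L Ks (s : L)) * σ (algebraMap L Ks (φ a₀) - (β : Ks)) = _
          rw [hσL, map_sub, hσL]
          rfl
        have hγS : γ ∈ S := by
          rw [← Multiset.mem_map_of_injective Subtype.val_injective, hS]
          exact hσroot
        refine (hM _).not.2 (fun hm => (IsLocalRing.mem_maximalIdeal _).1 hm h1) ?_
        rw [show ψ' (f.derivative.eval a₀) = (S.map fun a => ((S.erase a).map (ψ' a₀ - ·)).prod).sum from Subtype.ext (by
          rw [show ((ψ' (f.derivative.eval a₀) : big L Q) : Ks) = ψ (f.derivative.eval a₀) from rfl, hder, ← hS,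
            AddSubmonoidClass.coe_multiset_sum, Multiset.map_map, Multiset.map_map]
          refine congrArg Multiset.sum (Multiset.map_congr rfl fun a ha => ?_)
          simp only [Function.comp_apply]
          rw [← Multiset.map_erase _ Subtype.val_injective, SubmonoidClass.coe_multiset_prod, Multiset.map_map,
            Multiset.map_map]
          rfl)]
        refine M.multiset_sum_mem _ fun c hc => ?_
        obtain ⟨a, ha, rfl⟩ := Multiset.mem_map.1 hc
        by_cases hab : a = β
        · refine (Ideal.IsPrime.multiset_prod_mem_iff_exists_mem ‹M.IsPrime› _).2 ⟨_, Multiset.mem_map_of_mem _ ?_, hγM⟩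
          exact (Multiset.mem_erase_of_ne (fun hh => hne (congrArg Subtype.val (hh.trans hab)))).2 hγS
        · exact (Ideal.IsPrime.multiset_prod_mem_iff_exists_mem ‹M.IsPrime› _).2
            ⟨_, Multiset.mem_map_of_mem _ ((Multiset.mem_erase_of_ne (Ne.symm hab)).2 hβS), hβM⟩
      obtain ⟨l, hl⟩ : ∃ l : L, algebraMap L Ks l = (β : Ks) := by
        have : (β : Ks) ∈ IntermediateField.fixedField L.fixingSubgroup := fun σ => hfixed σ.1 σ.2
        rw [InfiniteGalois.fixedField_fixingSubgroup L] at this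
        exact ⟨⟨_, this⟩, rfl⟩
      obtain ⟨s, hs, hint⟩ := β.2
      let z : RL := ⟨(s : L) * l, (isIntegral_algebraMap_iff (A := L) (B := Ks) (algebraMap L Ks).injective).1
        (by rw [map_mul, hl]; exact hint)⟩
      let a : O := IsLocalization.mk' O z (⟨s, hs⟩ : Q.primeCompl)
      have ha : ψ a = (β : Ks) := by
        rw [← hl]
        refine congrArg (algebraMap L Ks) ?_
        have h2 := hmk z ⟨s, hs⟩
        exact mul_left_cancel₀ (fun h0' => hs (by rw [show s = 0 from Subtype.ext h0']; exact Q.zero_mem)) h2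
      refine ⟨a, ?_, ?_⟩
      · rw [mem_roots (hf.map ψ).ne_zero, IsRoot, eval_map, ← ha, eval₂_hom] at hβroot
        exact (map_eq_zero_iff ψ hψ).1 hβroot
      · rw [← neg_sub, neg_mem_iff, ← hM]
        rwa [show ψ' (a₀ - a) = ψ' a₀ - β from Subtype.ext (by simp [ψ', ha])]
    · have hne1 : f ≠ 1 := fun h1' => by
        rw [h1', eval_one] at h0
        exact (IsLocalRing.maximalIdeal.isMaximal O).ne_top ((Ideal.eq_top_iff_one _).2 h0)
      rw [hf.irreducible_iff_natDegree] at hirr
      push Not at hirr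
      obtain ⟨g, k, hg, hk, hgk, hgd, hkd⟩ := hirr hne1
      have hdeg : g.natDegree + k.natDegree = d := by rw [← h, ← hgk, hg.natDegree_mul hk]
      rw [← hgk, eval_mul] at h0
      rw [← hgk, derivative_mul, eval_add, eval_mul, eval_mul] at h1
      rcases (IsLocalRing.maximalIdeal.isMaximal O).isPrime.mem_or_mem h0 with h2 | h2
      · have h3 : IsUnit (g.derivative.eval a₀) := by
          by_contra hu
          exact (IsLocalRing.mem_maximalIdeal _).1
            (add_mem (Ideal.mul_mem_right _ _ ((IsLocalRing.mem_maximalIdeal _).2 hu)) (Ideal.mul_mem_right _ _ h2)) h1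
        obtain ⟨a, ha, haa⟩ := ih g.natDegree (by omega) g rfl hg a₀ h2 h3
        exact ⟨a, by rw [IsRoot, ← hgk, eval_mul, ha, zero_mul], haa⟩
      · have h3 : IsUnit (k.derivative.eval a₀) := by
          by_contra hu
          exact (IsLocalRing.mem_maximalIdeal _).1
            (add_mem (Ideal.mul_mem_left _ _ h2) (Ideal.mul_mem_left _ _ ((IsLocalRing.mem_maximalIdeal _).2 hu))) h1
        obtain ⟨a, ha, haa⟩ := ih k.natDegree (by omega) k rfl hk a₀ h2 h3
        exact ⟨a, by rw [IsRoot, ← hgk, eval_mul, ha, mul_zero], haa⟩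

end GrothLib.HensFix
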